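import Groth.Agent.Lib.Nakai.NumTrivial
import Groth.Agent.Lib.Cyc.C1K.Twist
import Groth.Agent.Lib.Modules.SupportOps
import Groth.Agent.Lib.UnifReg.Hyperplane
import Groth.Agent.Lib.Nakai.UnifVan
import Groth.Agent.Lib.Curves.SectionProduct
import Groth.Agent.Lib.Nakai.VeryAmpleGG
import Groth.Agent.Lib.ProjCoh.Duality

/-!
# Sections of the powers of a generated module on the closures of points

`rk M y j` is the rank of `H⁰(M^j) → H⁰(M^j|V)`, `V` the closure of `y`. If `M` is generated and
`(M^d · V) > 0`, `d = dim V`, then `rk M y j ≥ C(j + d, d)`.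
-/

set_option autoImplicit false
set_option linter.style.haveILetI false
set_option linter.unusedSectionVars false
universe u

open CategoryTheory CategoryTheory.Limits AlgebraicGeometry TopologicalSpace
open scoped TensorProduct

noncomputable section

namespace Groth.Agent.Lib.SemiampleKappa96

open Groth.Agent.Lib Groth.Agent.Lib.Snapper Groth.Agent.Lib.IntTheory Groth.Agent.Lib.Nakai.Cut
open Groth.Agent.Lib.Modules.StalkModule
open Groth.Agent.Lib.TensorMod.Basic (tmap comm assoc tensorIso leftUnit rightUnit tensorBy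
  tensorFunctor)
open Groth.Agent.Lib.TensorMod.Invertible (isInvertible_tensorPow isInvertible_tensorMod)
open Groth.Agent.Lib.UnifReg.Hyperplane (mulS)
open Groth.Agent.Lib.Curves.LES (mapK)
open Groth.Agent.Lib.Nakai.SubDevissage (PureAt)

variable {X : Scheme.{u}}

/-- `F ↦ F ⊗ M ⊗ ⋯ ⊗ M`. -/
def E (M : X.Modules) : ℕ → (X.Modules ⥤ X.Modules)
  | 0 => 𝟭 _
  | j + 1 => E M j ⋙ tensorBy M

theorem nonempty_objIso (M : X.Modules) : ∀ (j : ℕ) (F : X.Modules),
    Nonempty ((E M j).obj F ≅ CohB1.tensorMod (CohB1.tensorPow M j) F)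
  | 0, F => ⟨(leftUnit F).symm⟩
  | j + 1, F => (nonempty_objIso M j F).map fun e =>
      tensorIso e (Iso.refl M) ≪≫ assoc _ _ _ ≪≫ tensorIso (Iso.refl _) (comm _ _) ≪≫ (assoc _ _ _).symm

theorem isInvertible_E {M : X.Modules} (hM : PicF.IsInvertible M) (j : ℕ) :
    PicF.IsInvertible ((E M j).obj (Coh.structureModule X)) := by
  obtain ⟨e⟩ := nonempty_objIso M j (Coh.structureModule X)
  exact TensorMod.Invertible.isInvertible_of_iso (e ≪≫ rightUnit _).symm (isInvertible_tensorPow hM j)

theorem isCoh_E [AlgebraicGeometry.IsNoetherian X] {M : X.Modules} (hM : PicF.IsInvertible M) {F : X.Modules} (hF : Coh.IsCoh F) :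
    ∀ j : ℕ, Coh.IsCoh ((E M j).obj F)
  | 0 => hF
  | j + 1 => PosLin.SectionBound.isCoh_twist_right (isCoh_E hM hF j) hM

/-- Multiplication by `s`. -/
def σ {M : X.Modules} (s : Coh.structureModule X ⟶ M) (j : ℕ) (F : X.Modules) :
    (E M j).obj F ⟶ (E M (j + 1)).obj F :=
  (mulS s).app ((E M j).obj F)

theorem σ_natural {M : X.Modules} (s : Coh.structureModule X ⟶ M) (j : ℕ) {F G : X.Modules}
    (f : F ⟶ G) : (E M j).map f ≫ σ s j G = σ s j F ≫ (E M (j + 1)).map f :=
  (mulS s).naturality ((E M j).map f)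

theorem epi_E (M : X.Modules) {F G : X.Modules} (f : F ⟶ G) [Epi f] : ∀ j, Epi ((E M j).map f)
  | 0 => ‹Epi f›
  | j + 1 => by
    haveI := epi_E M f j
    exact inferInstanceAs (Epi ((tensorBy M).map ((E M j).map f)))

/-- The projection onto the closure. -/
def proj (y : X) : Coh.structureModule X ⟶ Cyc.closureStructureSheaf y :=
  (Cyc.C1K.Twist.exists_proj y).choose

theorem proj_spec (y x : X) :
    stalkMapₗ (proj y) x (Cyc.C1.one x) = Cyc.Retr.Witness.oneAt y x :=
  (Cyc.C1K.Twist.exists_proj y).choose_spec x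

instance epi_proj (y : X) : Epi (proj y) := Cyc.C1K.Twist.epi_proj (proj_spec y)

theorem pureAt_E [IsLocallyNoetherian X] {M : X.Modules} (hM : PicF.IsInvertible M) (y : X) (j : ℕ) :
    PureAt ((E M j).obj (Cyc.closureStructureSheaf y)) y := fun D g hg hD => by
  haveI := hg
  obtain ⟨e⟩ := nonempty_objIso M j (Cyc.closureStructureSheaf y)
  exact Nakai.NumTrivial.pureAt_twist (isInvertible_tensorPow hM j) y D (g ≫ e.hom) inferInstance hD

/-- Maps into a pure module are determined at the point. -/
theorem eq_zero_of_pureAt {A B : X.Modules} {z : X} (hB : PureAt B z) (f : A ⟶ B)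
    (hf : ∀ v, stalkMapₗ f z v = 0) : f = 0 := by
  suffices h : IsZero (Abelian.image f) by
    rw [← Abelian.image.fac f, h.eq_of_tgt (Abelian.factorThruImage f) 0, zero_comp]
  refine hB _ (Abelian.image.ι f) inferInstance fun hmem => hmem ?_
  refine subsingleton_of_forall_eq 0 fun w => ?_
  obtain ⟨v, rfl⟩ := (epi_iff_stalkMapₗ_surjective (Abelian.factorThruImage f)).mp inferInstance z w
  refine (mono_iff_stalkMapₗ_injective (Abelian.image.ι f)).mp inferInstance z ?_
  rw [← LinearMap.comp_apply, ← stalkMapₗ_comp, Abelian.image.fac, hf, map_zero]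

/-- Projections onto smaller closures factor. -/
theorem exists_factor [IsLocallyNoetherian X] {M : X.Modules} (hM : PicF.IsInvertible M) {y z : X}
    (hz : z ∈ CohB1.support (Cyc.closureStructureSheaf y)) :
    ∃ q : Cyc.closureStructureSheaf y ⟶ Cyc.closureStructureSheaf z, proj y ≫ q = proj z := by
  have h0 : kernel.ι (proj y) ≫ proj z = 0 := by
    refine eq_zero_of_pureAt (B := Cyc.closureStructureSheaf z) (pureAt_E hM z 0) _ fun v => ?_
    obtain ⟨r, hr⟩ := Submodule.mem_span_singleton.mp
      ((Cyc.C1.span_one z).ge (Submodule.mem_top : stalkMapₗ (kernel.ι (proj y)) z v ∈ ⊤))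
    rw [stalkMapₗ_comp, LinearMap.comp_apply, ← hr, map_smul, proj_spec]
    refine Cyc.Retr.Witness.smul_eq_zero_of_mem z ?_ _
    rw [IsLocalRing.mem_maximalIdeal, mem_nonunits_iff]
    intro hu
    have h1 : r • Cyc.Retr.Witness.oneAt y z = 0 := by
      rw [← proj_spec, ← map_smul, hr, ← LinearMap.comp_apply, ← stalkMapₗ_comp, kernel.condition,
        stalkMapₗ_zero, LinearMap.zero_apply]
    rw [hu.smul_eq_zero] at h1
    refine hz (subsingleton_of_forall_eq 0 fun w => ?_)
    obtain ⟨c, rfl⟩ := Cyc.Retr.Witness.exists_smul_oneAt y z w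
    rw [h1, smul_zero]
  exact ⟨Abelian.epiDesc (proj y) (proj z) h0, Abelian.comp_epiDesc _ _ _⟩

theorem smul_E_eq_zero {M : X.Modules} (z : X) : ∀ (j : ℕ) {c : X.presheaf.stalk z},
    c ∈ IsLocalRing.maximalIdeal (X.presheaf.stalk z) →
      ∀ v : ((E M j).obj (Cyc.closureStructureSheaf z)).presheaf.stalk z, c • v = 0
  | 0, c, hc, v => Cyc.Retr.Witness.smul_eq_zero_of_mem z hc v
  | j + 1, c, hc, v => by
    let e := DerivedOX.TensorSheaf.tensorStalk z ((E M j).obj (Cyc.closureStructureSheaf z)) M
    refine e.injective ((e.map_smul c v).trans (Eq.trans ?_ (map_zero e).symm))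
    induction e v using TensorProduct.induction_on with
    | zero => exact smul_zero _
    | tmul a b => rw [TensorProduct.smul_tmul', smul_E_eq_zero z j hc a, TensorProduct.zero_tmul]
    | add p q hp hq => rw [smul_add, hp, hq, add_zero]

/-- Off the cokernel support a map is surjective on stalks, conversely. -/
theorem notMem_support_of_surjective {A B C : X.Modules} {x : X} (f : A ⟶ B) (g : B ⟶ C) [Epi g]
    (h : f ≫ g = 0) (hf : Function.Surjective (stalkMapₗ f x)) : x ∉ CohB1.support C := fun hx => by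
  refine hx (subsingleton_of_forall_eq 0 fun w => ?_)
  obtain ⟨v, rfl⟩ := (epi_iff_stalkMapₗ_surjective g).mp inferInstance x w
  obtain ⟨u, rfl⟩ := hf v
  rw [← LinearMap.comp_apply, ← stalkMapₗ_comp, h, stalkMapₗ_zero, LinearMap.zero_apply]

theorem surjective_comp {A B C : X.Modules} {x : X} {f : A ⟶ B} {g : B ⟶ C}
    (hf : Function.Surjective (stalkMapₗ f x)) (hg : Function.Surjective (stalkMapₗ g x)) :
    Function.Surjective (stalkMapₗ (f ≫ g) x) := by
  rw [stalkMapₗ_comp, LinearMap.coe_comp]
  exact hg.comp hf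

theorem surjective_iso {A B : X.Modules} {x : X} (e : A ≅ B) :
    Function.Surjective (stalkMapₗ e.hom x) :=
  (epi_iff_stalkMapₗ_surjective e.hom).mp inferInstance x

theorem surjective_of_comp_iso {A B C : X.Modules} {x : X} {f : A ⟶ B} (e : B ≅ C)
    (h : Function.Surjective (stalkMapₗ (f ≫ e.hom) x)) : Function.Surjective (stalkMapₗ f x) := by
  have := surjective_comp h (surjective_iso (x := x) e.symm)
  rwa [Iso.symm_hom, Category.assoc, e.hom_inv_id, Category.comp_id] at this

/-- Multiplication by a section vanishing at `z` is not surjective at `z` on an invertible module. -/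
theorem not_surjective_mulS {M P : X.Modules} (hM : PicF.IsInvertible M) (hP : PicF.IsInvertible P)
    (s : Coh.structureModule X ⟶ M) {z : X} (hz : ¬ Function.Surjective (stalkMapₗ s z)) :
    ¬ Function.Surjective (stalkMapₗ ((mulS s).app P) z) := by
  intro h
  have h' : Function.Surjective (stalkMapₗ (tmap (𝟙 P) s) z) := by
    have h1 : Function.Surjective (stalkMapₗ ((rightUnit P).inv ≫ tmap (𝟙 P) s) z) := h
    have := surjective_comp (surjective_iso (x := z) (rightUnit P)) h1
    rwa [Iso.hom_inv_id_assoc] at this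
  haveI : Epi (tmap (𝟙 P) (cokernel.π s)) :=
    inferInstanceAs (Epi (((tensorFunctor X).obj P).map (cokernel.π s)))
  have hnot := notMem_support_of_surjective (tmap (𝟙 P) s) (tmap (𝟙 P) (cokernel.π s))
    (by rw [← TensorMod.Basic.tmap_comp, cokernel.condition]
        exact ((tensorFunctor X).obj P).map_zero _ _) h'
  rw [Twist.support_twist hP] at hnot
  refine hz fun v => ?_
  obtain ⟨g, hg⟩ := Cyc.C1.exists_stalk_gen hM z
  have hS : (ShortComplex.mk s (cokernel.π s) (cokernel.condition s)).Exact :=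
    ShortComplex.exact_cokernel s
  have hex := (Modules.Stalk.exact_iff_stalk _).mp hS z
  rw [ShortComplex.ab_exact_iff] at hex
  exact hex v (@Subsingleton.elim _ (Modules.Support.not_mem_support_iff.mp hnot) _ _)

/-- Multiplication by a section vanishing at `z` kills the closure of `z`. -/
theorem σ_eq_zero [IsLocallyNoetherian X] {M : X.Modules} (hM : PicF.IsInvertible M)
    (s : Coh.structureModule X ⟶ M) {z : X} (hz : ¬ Function.Surjective (stalkMapₗ s z)) (j : ℕ) :
    σ s j (Cyc.closureStructureSheaf z) = 0 := by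
  have hP := isInvertible_E hM j
  set P := (E M j).obj (Coh.structureModule X)
  set π := (E M j).map (proj z)
  haveI : Epi π := epi_E M (proj z) j
  refine eq_zero_of_pureAt (pureAt_E hM z (j + 1)) _ fun w => ?_
  obtain ⟨v, rfl⟩ := (epi_iff_stalkMapₗ_surjective π).mp inferInstance z w
  obtain ⟨g, hg⟩ := Cyc.C1.exists_stalk_gen (isInvertible_E hM (j + 1)) z
  obtain ⟨r, hr⟩ := Submodule.mem_span_singleton.mp
    (hg.ge (Submodule.mem_top : stalkMapₗ (σ s j (Coh.structureModule X)) z v ∈ ⊤))
  have hr' : r ∈ IsLocalRing.maximalIdeal (X.presheaf.stalk z) := by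
    rw [IsLocalRing.mem_maximalIdeal, mem_nonunits_iff]
    intro hu
    refine not_surjective_mulS hM hP s hz fun t => ?_
    obtain ⟨c, rfl⟩ := Submodule.mem_span_singleton.mp (hg.ge (Submodule.mem_top : t ∈ ⊤))
    obtain ⟨d, hd⟩ := hu.exists_left_inv
    refine ⟨(c * d) • v, (map_smul _ _ _).trans ?_⟩
    exact (congrArg ((c * d) • ·) hr.symm).trans
      ((smul_smul _ r g).trans (by rw [mul_assoc, hd, mul_one]))
  rw [← LinearMap.comp_apply, ← stalkMapₗ_comp, σ_natural, stalkMapₗ_comp, LinearMap.comp_apply,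
    ← hr, map_smul]
  exact smul_E_eq_zero z (j + 1) hr' _

/-- Multiplication by a section generating at `y` is injective on the closure of `y`. -/
theorem mono_mulS_E [IsLocallyNoetherian X] {M : X.Modules} (hM : PicF.IsInvertible M)
    (s : Coh.structureModule X ⟶ M) {y : X} (hy : y ∈ CohB1.genLocus M s) (j : ℕ) :
    Mono (σ s j (Cyc.closureStructureSheaf y)) := by
  change Mono ((mulS s).app ((E M j).obj (Cyc.closureStructureSheaf y)))
  refine Preadditive.mono_of_kernel_zero (eq_zero_of_pureAt (pureAt_E hM y j) _ fun v => ?_)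
  refine (UnifReg.Hyperplane.bijective_stalk_mulS s hy _).1 ?_
  rw [← LinearMap.comp_apply, ← stalkMapₗ_comp, kernel.condition, stalkMapₗ_zero,
    LinearMap.zero_apply, map_zero]

variable (k : Type u) [Field k] [X.Over (Spec (CommRingCat.of k))]
  [IsProper (X ↘ Spec (CommRingCat.of k))]

/-- The rank of `H⁰(M^j) → H⁰(M^j|V)`. -/
def rk (M : X.Modules) (y : X) (j : ℕ) : ℕ :=
  Module.finrank k (LinearMap.range (mapK k ((E M j).map (proj y)) 0))

variable {k}

theorem rk_le {M : X.Modules} (hM : PicF.IsInvertible M) (y : X) (j : ℕ) :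
    rk k M y j ≤ PosLin.SectionBound.h0 k X (CohB1.tensorPow M j) := by
  haveI := Curves.GlobalSections.isNoetherian_of_proper k X
  obtain ⟨e⟩ := nonempty_objIso M j (Coh.structureModule X)
  haveI : FiniteDimensional k (Coh.HH X ((E M j).obj (Coh.structureModule X)) 0) :=
    Finite.cohFinite k X _ (isCoh_E hM (Twist.isCoh_structureModule X) j) 0
  exact (LinearMap.finrank_range_le _).trans
    (PosLin.SectionBound.h0_congr (k := k) (e ≪≫ rightUnit _)).le

theorem mapK_oneClass {N : X.Modules} (f : Coh.structureModule X ⟶ N) :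
    Curves.GlobalSections.h0Equiv N (mapK k f 0 (Curves.SectionProduct.oneClass X)) =
      f.app ⊤ (TensorMod.Gen.one X ⊤) := by
  refine (Sheaf.H.equiv₀_naturality (F := Coh.toAb (Coh.structureModule X)) (G := Coh.toAb N)
    (isTerminalTop (α := Opens X)) (Curves.LES.toAbMap f) (Curves.SectionProduct.oneClass X)).symm.trans ?_
  exact congrArg (f.app ⊤) ((Curves.GlobalSections.h0Equiv (Coh.structureModule X)).apply_symm_apply _)

theorem one_le_rk_zero (M : X.Modules) (y : X) : 1 ≤ rk k M y 0 := by
  haveI := Curves.GlobalSections.isNoetherian_of_proper k X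
  haveI : FiniteDimensional k (Coh.HH X (Cyc.closureStructureSheaf y) 0) :=
    Finite.cohFinite k X _ (Devissage.Closure.isCoh_closureStructureSheaf y) 0
  haveI : FiniteDimensional k (Coh.HH X ((E M 0).obj (Cyc.closureStructureSheaf y)) 0) := ‹_›
  refine Submodule.one_le_finrank_iff.2 fun h => ?_
  have h0 : mapK k (proj y) 0 (Curves.SectionProduct.oneClass X) = 0 :=
    LinearMap.congr_fun (LinearMap.range_eq_bot.mp h) (Curves.SectionProduct.oneClass X)
  have h1 := mapK_oneClass (k := k) (proj y)
  rw [h0, map_zero] at h1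
  refine Cyc.Retr.Witness.oneAt_ne_zero y ?_
  rw [← proj_spec, Cyc.C1.one]
  refine (stalkMapₗ_germ (proj y) (x := y) (U := ⊤) trivial _).trans ?_
  erw [← h1]
  exact map_zero _

theorem mapK_sq {A B C D : X.Modules} {f : A ⟶ B} {g : B ⟶ D} {f' : A ⟶ C} {g' : C ⟶ D}
    (h : f ≫ g = f' ≫ g') (v : Coh.HH X A 0) :
    mapK k g 0 (mapK k f 0 v) = mapK k g' 0 (mapK k f' 0 v) := by
  rw [← LinearMap.comp_apply, ← Curves.LES.mapK_comp, h, Curves.LES.mapK_comp, LinearMap.comp_apply]

/-- Multiplication by `s` embeds one piece in the next. -/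
theorem map_range_le {M : X.Modules} (s : Coh.structureModule X ⟶ M) (y : X) (j : ℕ) :
    (LinearMap.range (mapK k ((E M j).map (proj y)) 0)).map
        (mapK k (σ s j (Cyc.closureStructureSheaf y)) 0) ≤
      LinearMap.range (mapK k ((E M (j + 1)).map (proj y)) 0) := by
  rintro _ ⟨_, ⟨v, rfl⟩, rfl⟩
  exact ⟨mapK k (σ s j (Coh.structureModule X)) 0 v, mapK_sq (σ_natural s j (proj y)).symm v⟩

theorem rk_le_succ {M : X.Modules} (hM : PicF.IsInvertible M) (s : Coh.structureModule X ⟶ M) {y : X}
    (hy : y ∈ CohB1.genLocus M s) (j : ℕ) : rk k M y j ≤ rk k M y (j + 1) := by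
  haveI := Curves.GlobalSections.isNoetherian_of_proper k X
  haveI : FiniteDimensional k (Coh.HH X ((E M (j + 1)).obj (Cyc.closureStructureSheaf y)) 0) :=
    Finite.cohFinite k X _ (isCoh_E hM (Devissage.Closure.isCoh_closureStructureSheaf y) _) 0
  haveI := mono_mulS_E hM s hy j
  have hinj := Curves.LES.mapK_injective_of_mono k (σ s j (Cyc.closureStructureSheaf y))
  unfold rk
  rw [(Submodule.equivMapOfInjective _ hinj _).finrank_eq]
  exact Submodule.finrank_mono (map_range_le s y j)

/-- **The step.** -/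
theorem rk_add_le {M : X.Modules} (hM : PicF.IsInvertible M) (s : Coh.structureModule X ⟶ M) {y z : X}
    (hy : y ∈ CohB1.genLocus M s) (hz : z ∈ CohB1.support (Cyc.closureStructureSheaf y))
    (hs : ¬ Function.Surjective (stalkMapₗ s z)) (j : ℕ) :
    rk k M y j + rk k M z (j + 1) ≤ rk k M y (j + 1) := by
  haveI := Curves.GlobalSections.isNoetherian_of_proper k X
  haveI hfy : FiniteDimensional k (Coh.HH X ((E M (j + 1)).obj (Cyc.closureStructureSheaf y)) 0) :=
    Finite.cohFinite k X _ (isCoh_E hM (Devissage.Closure.isCoh_closureStructureSheaf y) _) 0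
  haveI := mono_mulS_E hM s hy j
  have hinj := Curves.LES.mapK_injective_of_mono k (σ s j (Cyc.closureStructureSheaf y))
  obtain ⟨q, hq⟩ := exists_factor hM hz
  set A' := LinearMap.range (mapK k ((E M (j + 1)).map (proj y)) 0)
  set φ := (mapK k ((E M (j + 1)).map q) 0).comp A'.subtype
  have hsurj : LinearMap.range φ = LinearMap.range (mapK k ((E M (j + 1)).map (proj z)) 0) := by
    rw [LinearMap.range_comp, Submodule.range_subtype, ← LinearMap.range_comp, ← Curves.LES.mapK_comp,
      ← Functor.map_comp, hq]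
  have hker : (LinearMap.range (mapK k ((E M j).map (proj y)) 0)).map
      (mapK k (σ s j (Cyc.closureStructureSheaf y)) 0) ≤
        (LinearMap.ker φ).map A'.subtype := by
    rintro w hw
    refine ⟨⟨w, map_range_le s y j hw⟩, ?_, rfl⟩
    obtain ⟨u, -, rfl⟩ := hw
    refine (mapK_sq (k := k) (σ_natural s j q).symm u).trans ?_
    rw [σ_eq_zero hM s hs j]
    exact ProjCoh.Duality.mapK_zero_apply k _ _
  have h1 := LinearMap.finrank_range_add_finrank_ker φ
  rw [hsurj] at h1
  have h2 := Submodule.finrank_mono hker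
  rw [← (Submodule.equivMapOfInjective _ hinj _).finrank_eq,
    Submodule.finrank_map_subtype_eq] at h2
  unfold rk
  rw [← h1]
  exact (Nat.add_comm _ _).le.trans (Nat.add_le_add_left h2 _)

variable {N : ℕ} (hN : topologicalKrullDim X ≤ N)

include hN

/-- The divisor of a section on a closure. -/
theorem exists_coker {M : X.Modules} (hM : PicF.IsInvertible M) (s : Coh.structureModule X ⟶ M) {y : X}
    (hy : y ∈ CohB1.genLocus M s) {l : List X.Modules} (hl : ∀ M' ∈ l, PicF.IsInvertible M')
    (hd : Nakai.Main.pd k y = l.length + 1) :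
    ∃ Q : X.Modules, Coh.IsCoh Q ∧ topologicalKrullDim (CohB1.support Q) ≤ l.length ∧
      (∀ z ∈ CohB1.support Q, z ∈ CohB1.support (Cyc.closureStructureSheaf y) ∧
        ¬ Function.Surjective (stalkMapₗ s z)) ∧
      ip k N (M :: l) y = (-1 : ℤ) ^ l.length * Vanish.sym k X N l Q := by
  haveI := Curves.GlobalSections.isNoetherian_of_proper k X
  set O := Cyc.closureStructureSheaf y
  have hO : Coh.IsCoh O := Devissage.Closure.isCoh_closureStructureSheaf y
  have hOM : Coh.IsCoh (CohB1.tensorMod O M) := PosLin.SectionBound.isCoh_twist_right hO hM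
  haveI : Mono ((mulS s).app O) := mono_mulS_E hM s hy 0
  have hO0 : (E M 0).obj O = O := rfl
  have hS := Devissage.Basic.exists_ses_mono ((mulS s).app O)
  have hQ : Coh.IsCoh (cokernel ((mulS s).app O)) :=
    CohBasics.Closure.isCoh_cokernel _ hO.1 hOM
  have hsub : ∀ z ∈ CohB1.support (cokernel ((mulS s).app O)),
      z ∈ CohB1.support O ∧ z ∉ CohB1.genLocus M s := by
    intro z hz
    obtain ⟨h1, h2⟩ := UnifReg.Hyperplane.support_coker s O hz
    refine ⟨?_, h1⟩
    have h3 : z ∈ CohB1.support (CohB1.tensorMod M O) :=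
      (Modules.Support.support_congr (comm O M)).subset h2
    rwa [Twist.support_twist hM] at h3
  haveI := hQ.2
  refine ⟨_, hQ, ?_, fun z hz => ⟨(hsub z hz).1, fun hsurj => ?_⟩, ?_⟩
  · refine Nakai.UnifVan.dim_le_of_pd (k := k) (Modules.Support.isClosed_support _) fun z hz => ?_
    have hcl : z ∈ closure ({y} : Set X) := Devissage.Closure.support_closureStructureSheaf y (hsub z hz).1
    have hne : y ≠ z := fun h => (hsub z hz).2 (h ▸ hy)
    have := VarDim.Basic.pdim_lt (X ↘ Spec (CommRingCat.of k)) (specializes_iff_mem_closure.2 hcl) hne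
    change Nakai.Main.pd k z < Nakai.Main.pd k y at this
    omega
  · refine notMem_support_of_surjective ((mulS s).app O) (cokernel.π _) (cokernel.condition _) ?_ hz
    have hO1 : Function.Surjective (stalkMapₗ ((mulS s).app (Coh.structureModule X)) z) := by
      refine surjective_of_comp_iso (leftUnit M) ?_
      change Function.Surjective (stalkMapₗ (((rightUnit _).inv ≫ tmap (𝟙 _) s) ≫ (leftUnit M).hom) z)
      rw [Category.assoc, TensorMod.Basic.leftUnit_natural]
      exact surjective_comp (surjective_iso (rightUnit _).symm)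
        (surjective_comp (surjective_iso (leftUnit _)) hsurj)
    haveI : Epi ((E M 1).map (proj y)) := epi_E M (proj y) 1
    intro w
    obtain ⟨v, rfl⟩ := (epi_iff_stalkMapₗ_surjective ((E M 1).map (proj y))).mp inferInstance z w
    obtain ⟨u, rfl⟩ := hO1 v
    refine ⟨stalkMapₗ (proj y) z u, ?_⟩
    exact (LinearMap.congr_fun (stalkMapₗ_comp ((E M 0).map (proj y)) (σ s 0 O) z) u).symm.trans
      ((congrArg (fun f => stalkMapₗ f z u) (σ_natural s 0 (proj y))).trans
        (LinearMap.congr_fun (stalkMapₗ_comp (σ s 0 (Coh.structureModule X)) ((E M 1).map (proj y)) z) u))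
  · have hadd := (Additive.isAdd_sym (Finite.cohFinite k X) hN hl).add hS hO hOM hQ
    rw [ip, Vanish.sym_cons, Vanish.sym_of_iso l (comm M O), List.length_cons]
    change Vanish.sym k X N l (CohB1.tensorMod O M) = Vanish.sym k X N l O +
      Vanish.sym k X N l (cokernel ((mulS s).app O)) at hadd
    rw [hadd]
    ring

end Groth.Agent.Lib.SemiampleKappa96
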