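import Groth.Agent.Lib.SemiampleKappa96.Basic
import Groth.Agent.H97.AsympRR

/-!
# For semiample modules the numerical dimension is at most the Iitaka dimension
-/

set_option autoImplicit false
set_option linter.style.haveILetI false
set_option linter.unusedSectionVars false
universe u

open CategoryTheory CategoryTheory.Limits AlgebraicGeometry TopologicalSpace

noncomputable section

namespace Groth.Agent.Lib.SemiampleKappa96

open Groth.Agent.Lib Groth.Agent.Lib.Snapper Groth.Agent.Lib.IntTheory Groth.Agent.Lib.Nakai.Cut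
open Groth.Agent.Lib.TensorMod.Invertible (isInvertible_tensorPow isInvertible_tensorMod)
open Groth.Agent.Lib.Nakai.Kleiman (Nef mixList)

variable {k : Type u} [Field k] {X : Scheme.{u}} [X.Over (Spec (CommRingCat.of k))]
  [IsProper (X ↘ Spec (CommRingCat.of k))]

theorem exists_section_gg {M : X.Modules} (hM : PicF.IsInvertible M)
    (hgg : Curv2.IsGloballyGenerated M) (y : X) :
    ∃ s : Coh.structureModule X ⟶ M, y ∈ CohB1.genLocus M s :=
  Ample.GG.exists_genLocus_of_genAt hM
    (show Ample.GG.GenAt M y from H34.GlobGen.gl_eq_top_of_gg hgg y)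

variable {N : ℕ} (hN : topologicalKrullDim X ≤ N)

include hN

/-- A generated module is nef. -/
theorem nef_of_gg {M : X.Modules} (hM : PicF.IsInvertible M) (hgg : Curv2.IsGloballyGenerated M) :
    Nef k N M := by
  intro z hz
  obtain ⟨s, hs⟩ := exists_section_gg hM hgg z
  obtain ⟨Q, hQ, hQd, -, heq⟩ := exists_coker (k := k) hN hM s hs (l := []) (by simp) (by simp [hz])
  rw [heq]
  exact Nakai.Top.nonneg_of_points (k := k) hN (l := []) (by simp) hQ hQd
    fun x hx => (ip_nil_pos (k := k) hN hx).le

/-- **The lower bound.** -/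
theorem choose_le_rk {M : X.Modules} (hM : PicF.IsInvertible M) (hgg : Curv2.IsGloballyGenerated M) :
    ∀ (d : ℕ) (y : X), Nakai.Main.pd k y = d → 0 < ip k N (List.replicate d M) y →
      ∀ j : ℕ, (j + d).choose d ≤ rk k M y j := by
  intro d
  induction d with
  | zero =>
    intro y hy _ j
    rw [Nat.choose_zero_right]
    induction j with
    | zero => exact one_le_rk_zero M y
    | succ j ih =>
      obtain ⟨s, hs⟩ := exists_section_gg hM hgg y
      exact ih.trans (rk_le_succ hM s hs j)
  | succ d ih =>
    intro y hy hpos j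
    haveI := Curves.GlobalSections.isNoetherian_of_proper k X
    have hl : ∀ M' ∈ List.replicate d M, PicF.IsInvertible M' :=
      fun M' h => List.eq_of_mem_replicate h ▸ hM
    have hlen : (List.replicate d M).length = d := List.length_replicate
    obtain ⟨s, hs⟩ := exists_section_gg hM hgg y
    obtain ⟨Q, hQ, hQd, hsub, heq⟩ := exists_coker (k := k) hN hM s hs hl (by rw [hy, hlen])
    rw [List.replicate_succ, heq] at hpos
    haveI := hQ.2
    rw [hlen] at hQd hpos
    rw [Additive.eq_sum (Additive.isAdd_sym (Finite.cohFinite k X) hN hl)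
      (Additive.vanishBelow_sym (Finite.cohFinite k X) hN hl hlen) hQ
      (T := ⟨_, Modules.Support.isClosed_support Q⟩) subset_rfl hQd, Finset.mul_sum] at hpos
    obtain ⟨z, hz, hzpos⟩ := Finset.exists_lt_of_sum_lt (f := fun _ => (0 : ℤ))
      (by simpa using hpos)
    obtain ⟨hzQ, hzd⟩ := (Set.Finite.mem_toFinset _).1 hz
    have hzd' : Nakai.Main.pd k z = d := by rw [dim_closure (k := k) z] at hzd; exact_mod_cast hzd
    have hipz : 0 < ip k N (List.replicate d M) z := by
      rw [ip, hlen]
      rw [mul_left_comm] at hzpos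
      exact pos_of_mul_pos_right hzpos (Int.natCast_nonneg _)
    obtain ⟨hzy, hsz⟩ := hsub z hzQ
    induction j with
    | zero => simpa using one_le_rk_zero (k := k) M y
    | succ j ihj =>
      have h := rk_add_le hM s hs hzy hsz j (k := k)
      have h2 := ih z hzd' hipz (j + 1)
      rw [show j + 1 + (d + 1) = (j + 1 + d) + 1 by omega, Nat.choose_succ_succ']
      rw [show j + (d + 1) = j + 1 + d by omega] at ihj
      omega

/-- Scaling. -/
theorem ip_replicate_pow {L : X.Modules} (hL : PicF.IsInvertible L) (a : ℕ) (y : X) :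
    ∀ p q : ℕ, Nakai.Main.pd k y ≤ p + q →
      ip k N (List.replicate p (CohB1.tensorPow L a) ++ List.replicate q L) y =
        (a : ℤ) ^ p * ip k N (List.replicate (p + q) L) y
  | 0, q, _ => by simp
  | p + 1, q, h => by
    have hla := isInvertible_tensorPow hL a
    have hl : ∀ M ∈ List.replicate p (CohB1.tensorPow L a) ++ List.replicate q L, PicF.IsInvertible M :=
      fun M hM => by
        rcases List.mem_append.1 hM with h' | h'
        · exact List.eq_of_mem_replicate h' ▸ hla
        · exact List.eq_of_mem_replicate h' ▸ hL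
    have hperm : (List.replicate p (CohB1.tensorPow L a) ++ List.replicate (q + 1) L).Perm
        (L :: (List.replicate p (CohB1.tensorPow L a) ++ List.replicate q L)) :=
      List.perm_middle
    rw [List.replicate_succ, List.cons_append, ip_pow (k := k) hN hL hl (y := y)
      (by simp only [List.length_append, List.length_replicate]; omega) a,
      ← ip_perm (k := k) hperm, ip_replicate_pow hL a y p (q + 1) (by omega),
      show p + (q + 1) = p + 1 + q by omega, pow_succ]
    ring

theorem ip_pow_eq {L : X.Modules} (hL : PicF.IsInvertible L) (a m : ℕ) {y : X}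
    (hy : Nakai.Main.pd k y ≤ m) :
    ip k N (List.replicate m (CohB1.tensorPow L a)) y =
      (a : ℤ) ^ m * ip k N (List.replicate m L) y := by
  simpa using ip_replicate_pow (k := k) hN hL a y m 0 (by simpa using hy)

/-- A semiample module is nef. -/
theorem nef_of_semiample {L : X.Modules} (hL : PicF.IsInvertible L) {μ : ℕ} (hμ : 0 < μ)
    (hgg : Curv2.IsGloballyGenerated (CohB1.tensorPow L μ)) : Nef k N L := fun z hz => by
  have h := nef_of_gg (k := k) hN (isInvertible_tensorPow hL μ) hgg z hz
  have e := ip_pow_eq (k := k) hN hL μ 1 (y := z) hz.le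
  rw [List.replicate_one, List.replicate_one, pow_one] at e
  rw [e] at h
  exact nonneg_of_mul_nonneg_right h (Int.natCast_pos.mpr hμ)

/-- If the growth is slower than `μ^m` then `L^m` vanishes on all `m`-dimensional closures. -/
theorem triv_of_not_growth {L H : X.Modules} (hL : PicF.IsInvertible L) (hH : CohB1.IsAmple H)
    {μ₀ : ℕ} (hμ₀ : 0 < μ₀) (hgg : Curv2.IsGloballyGenerated (CohB1.tensorPow L μ₀)) (m : ℕ)
    (hno : ¬ ∃ ν a : ℕ, 0 < ν ∧ 0 < a ∧ ∀ μ : ℕ, 1 ≤ μ →
      μ ^ m ≤ a * Module.finrank k (Coh.HH X (CohB1.tensorPow L (ν * μ)) 0)) :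
    Nakai.NumTrivial.Triv k N L m := by
  intro z hz
  by_contra hne
  have hge := Nakai.Kleiman.mixed_nonneg (k := k) hN hL (nef_of_semiample (k := k) hN hL hμ₀ hgg)
    m z hz H hH.1 (ampleAt_of_isAmple hH z) m 0 rfl
  rw [show mixList L H m 0 = List.replicate m L from List.append_nil _] at hge
  have hposL : 0 < ip k N (List.replicate m L) z := lt_of_le_of_ne hge (Ne.symm hne)
  have hM := isInvertible_tensorPow hL μ₀
  have hposM : 0 < ip k N (List.replicate m (CohB1.tensorPow L μ₀)) z := by
    rw [ip_pow_eq (k := k) hN hL μ₀ m hz.le]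
    positivity
  refine hno ⟨μ₀, m.factorial, hμ₀, m.factorial_pos, fun μ _ => ?_⟩
  have h1 := (choose_le_rk (k := k) hN hM hgg m z hz hposM μ).trans (rk_le (k := k) hM z μ)
  have h2 : PosLin.SectionBound.h0 k X (CohB1.tensorPow (CohB1.tensorPow L μ₀) μ) =
      Module.finrank k (Coh.HH X (CohB1.tensorPow L (μ₀ * μ)) 0) :=
    PosLin.SectionBound.h0_congr (Ample.Pow.powMul L μ₀ μ)
  rw [h2] at h1
  have h3 : μ ^ m ≤ (μ + m).descFactorial m :=
    (Nat.pow_le_pow_left (show μ ≤ μ + m + 1 - m by omega) m).trans (Nat.pow_sub_le_descFactorial _ m)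
  rw [Nat.descFactorial_eq_factorial_mul_choose] at h3
  exact h3.trans (Nat.mul_le_mul_left _ h1)

end Groth.Agent.Lib.SemiampleKappa96
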